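import Cfsg.Agent.Lib.ThreeTrans.Refl3.Rigid

/-!
Point maps in dimension four fixing the coordinate vectors are sign changes (owner: helper16; used by
the base steps of the reflection family of dimension six).
-/

set_option autoImplicit false

namespace CfsgLib.ThreeTrans.Refl3

variable {M : ℕ} {a : Fin M → ZMod 3} {f : (Fin M → ZMod 3) → (Fin M → ZMod 3)}

/-- A point map followed by a change of signs is a point map. -/
theorem PointMap.signed {s : Fin M → ZMod 3} (hs : ∀ i, s i * s i = 1) (hf : PointMap a f) :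
    PointMap a fun v => s * f v := by
  have hdot : ∀ x y, dot a (s * x) (s * y) = dot a x y := fun x y =>
    Finset.sum_congr rfl fun i _ => by
      simp only [Pi.mul_apply]
      linear_combination (a i * x i * y i) * hs i
  exact
    { norm := fun v hv => by rw [hdot]; exact hf.norm v hv
      perp := fun v z hv hz => by rw [hdot]; exact hf.perp v z hv hz
      neg := fun v hv => (hf.neg v hv).map (diagMap s)
      refl := fun x y hx hy => by
        refine ((hf.refl x y hx hy).map (diagMap s)).trans (Or.inl ?_)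
        show s * rmap a (f x) (f y) = rmap a (s * f x) (s * f y)
        rw [rmap, rmap, hdot, mul_add, mul_smul_comm] }

/-- The zero coordinates of the image, at the coordinates of weight one. -/
theorem PointMap.supp_iff (hf : PointMap a f) (hfix : ∀ i, a i = 1 → Pm (f (Pi.single i 1)) (Pi.single i 1))
    {v : Fin M → ZMod 3} (hv : dot a v v = 1) {i : Fin M} (hi : a i = 1) : f v i = 0 ↔ v i = 0 := by
  have hs : dot a (Pi.single i 1) (Pi.single i 1) = 1 := by simp [dot_single_left, hi]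
  have h := hf.perp v (Pi.single i 1) hv hs
  rcases hfix i hi with e | e <;> rw [e] at h
  · simpa [dot_single_right, hi] using h
  · rw [dot_comm, dot_neg_left, dot_comm] at h
    simpa [dot_single_right, hi] using h

theorem four_sign_aux : ∀ p q r t : ZMod 3, q ≠ 0 → r ≠ 0 → p * r - q * t = 0 → p * q * r = t := by decide

/-- The vectors of norm one of the two forms in dimension four, up to the support. -/
theorem four_reps : ∀ v : Fin 4 → ZMod 3,
    (dot ![1, 1, 1, 1] v v = 1 → (∀ i, v i = 0 ↔ (![1, 1, 1, 1] : Fin 4 → ZMod 3) i = 0) ∨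
      ∃ k : Fin 4, ∀ i, v i = 0 ↔ (Pi.single k 1 : Fin 4 → ZMod 3) i = 0) ∧
    (dot ![1, 1, 1, -1] v v = 1 → (∀ i, v i = 0 ↔ (![1, 1, 0, 1] : Fin 4 → ZMod 3) i = 0) ∨
      (∀ i, v i = 0 ↔ (![1, 0, 1, 1] : Fin 4 → ZMod 3) i = 0) ∨
      (∀ i, v i = 0 ↔ (![0, 1, 1, 1] : Fin 4 → ZMod 3) i = 0) ∨
      ∃ k : Fin 4, k ≠ 3 ∧ ∀ i, v i = 0 ↔ (Pi.single k 1 : Fin 4 → ZMod 3) i = 0) := by
  simp only [dot, Fin.sum_univ_four, Pi.single_apply]
  decide

/-- Point maps of a four-dimensional form fixing the coordinate vectors are sign changes. -/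
theorem exists_signs_four {a : Fin 4 → ZMod 3} (ha : a = ![1, 1, 1, 1] ∨ a = ![1, 1, 1, -1])
    {f : (Fin 4 → ZMod 3) → (Fin 4 → ZMod 3)} (hf : PointMap a f)
    (hfix : ∀ i, a i = 1 → Pm (f (Pi.single i 1)) (Pi.single i 1)) :
    ∃ s : Fin 4 → ZMod 3, (∀ i, s i * s i = 1) ∧ ∀ v, dot a v v = 1 → Pm (f v) (s * v) := by
  have hw : Weights a := by
    rcases ha with rfl | rfl <;> (unfold Weights; decide)
  -- enough: signs after which the representatives are fixed
  suffices ∃ s : Fin 4 → ZMod 3, (∀ i, s i * s i = 1) ∧ ∀ v, dot a v v = 1 →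
      (∃ k, a k = 1 ∧ SameSupp (Pi.single k 1) v) ∨
        ∃ r, dot a r r = 1 ∧ SameSupp r v ∧ Pm (s * f r) r by
    obtain ⟨s, hs, hrep⟩ := this
    have hP := closed_fixed (hf.signed hs)
    have hsingle : ∀ i, a i = 1 → dot a (Pi.single i 1) (Pi.single i 1) = 1 →
        Pm (s * f (Pi.single i 1)) (Pi.single i 1) := fun i hi _ => by
      refine ((hfix i hi).map (diagMap s)).trans (pm_of_prop (t := s i) (fun e => ?_) fun j => ?_)
      · have := hs i; rw [e, zero_mul] at this; exact zero_ne_one this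
      · show s j * (Pi.single i 1 : Fin 4 → ZMod 3) j = _
        rcases eq_or_ne j i with rfl | hne <;> simp [*]
    refine ⟨s, hs, fun v hv => ?_⟩
    have hv' : Pm (s * f v) v := by
      rcases hrep v hv with ⟨k, hk, hkv⟩ | ⟨r, hr, hrv, hfr⟩
      · exact of_sameSupp hP hsingle hw hkv (hsingle k hk) (by simp [dot_single_left, hk]) hv
      · exact of_sameSupp hP hsingle hw hrv (fun _ => hfr) hr hv
    refine Pm.trans (Or.inl ?_) (hv'.map (diagMap s))
    show f v = s * (s * f v)
    funext i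
    simp only [Pi.mul_apply]
    rw [← mul_assoc, hs, one_mul]
  have nz : ∀ {v : Fin 4 → ZMod 3}, dot a v v = 1 → ∀ {i}, a i = 1 → v i ≠ 0 → f v i ≠ 0 :=
    fun hv _ hi hne e => hne ((hf.supp_iff hfix hv hi).1 e)
  have zz : ∀ {v : Fin 4 → ZMod 3}, dot a v v = 1 → ∀ {i}, a i = 1 → v i = 0 → f v i = 0 :=
    fun hv _ hi he => (hf.supp_iff hfix hv hi).2 he
  rcases ha with rfl | rfl
  · have hn : dot ![1, 1, 1, 1] (![1, 1, 1, 1] : Fin 4 → ZMod 3) ![1, 1, 1, 1] = 1 := by
      simp only [dot, Fin.sum_univ_four]; decide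
    have hone : ∀ i : Fin 4, (![1, 1, 1, 1] : Fin 4 → ZMod 3) i = 1 := by decide
    set u := f ![1, 1, 1, 1] with hu
    have hu0 : ∀ i, u i ≠ 0 := fun i => nz hn (hone i) (by rw [hone]; exact one_ne_zero)
    refine ⟨u, fun i => sq_one _ (hu0 i), fun v hv => ?_⟩
    rcases (four_reps v).1 hv with h | ⟨k, hk⟩
    · refine Or.inr ⟨_, hn, fun i => (h i).symm, Or.inl ?_⟩
      funext i
      rw [Pi.mul_apply, ← hu, sq_one _ (hu0 i), hone]
    · exact Or.inl ⟨k, hone k, fun i => (hk i).symm⟩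
  · set a : Fin 4 → ZMod 3 := ![1, 1, 1, -1] with ha
    have a012 : a 0 = 1 ∧ a 1 = 1 ∧ a 2 = 1 ∧ a 3 = -1 := ⟨rfl, rfl, rfl, rfl⟩
    obtain ⟨a0, a1, a2, a3⟩ := a012
    have hall : dot a ![1, 1, 0, 1] ![1, 1, 0, 1] = 1 ∧ dot a ![1, 0, 1, 1] ![1, 0, 1, 1] = 1 ∧
        dot a ![0, 1, 1, 1] ![0, 1, 1, 1] = 1 ∧ dot a ![1, 1, 0, 1] ![1, 0, 1, 1] = 0 ∧
        dot a ![1, 1, 0, 1] ![0, 1, 1, 1] = 0 ∧ dot a ![1, 0, 1, 1] ![0, 1, 1, 1] = 0 := by
      simp only [ha, dot, Fin.sum_univ_four]; decide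
    obtain ⟨hx, hy, hz, pxy, pxz, pyz⟩ := hall
    set x := f ![1, 1, 0, 1] with hxd
    set y := f ![1, 0, 1, 1] with hyd
    set z := f ![0, 1, 1, 1] with hzd
    have x0 : x 0 ≠ 0 := nz hx a0 (by decide)
    have x1 : x 1 ≠ 0 := nz hx a1 (by decide)
    have x2 : x 2 = 0 := zz hx a2 (by decide)
    have y0 : y 0 ≠ 0 := nz hy a0 (by decide)
    have y1 : y 1 = 0 := zz hy a1 (by decide)
    have y2 : y 2 ≠ 0 := nz hy a2 (by decide)
    have z0 : z 0 = 0 := zz hz a0 (by decide)
    have z1 : z 1 ≠ 0 := nz hz a1 (by decide)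
    have z2 : z 2 ≠ 0 := nz hz a2 (by decide)
    have three : ∀ {p q r : ZMod 3}, p ≠ 0 → q ≠ 0 → p * p + q * q + -1 * r * r = 1 → r ≠ 0 := by decide
    have x3 : x 3 ≠ 0 := three x0 x1 (by
      have := hf.norm _ hx
      simp only [← hxd, dot, Fin.sum_univ_four, a0, a1, a2, a3, x2] at this
      linear_combination this)
    have y3 : y 3 ≠ 0 := three y0 y2 (by
      have := hf.norm _ hy
      simp only [← hyd, dot, Fin.sum_univ_four, a0, a1, a2, a3, y1] at this
      linear_combination this)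
    have z3 : z 3 ≠ 0 := three z1 z2 (by
      have := hf.norm _ hz
      simp only [← hzd, dot, Fin.sum_univ_four, a0, a1, a2, a3, z0] at this
      linear_combination this)
    have exy : x 0 * y 0 - x 3 * y 3 = 0 := by
      have := (hf.perp _ _ hx hy).2 pxy
      simp only [← hxd, ← hyd, dot, Fin.sum_univ_four, a0, a1, a2, a3, x2, y1] at this
      linear_combination this
    have exz : x 1 * z 1 - x 3 * z 3 = 0 := by
      have := (hf.perp _ _ hx hz).2 pxz
      simp only [← hxd, ← hzd, dot, Fin.sum_univ_four, a0, a1, a2, a3, x2, z0] at this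
      linear_combination this
    have eyz : y 2 * z 2 - y 3 * z 3 = 0 := by
      have := (hf.perp _ _ hy hz).2 pyz
      simp only [← hyd, ← hzd, dot, Fin.sum_univ_four, a0, a1, a2, a3, y1, z0] at this
      linear_combination this
    set s : Fin 4 → ZMod 3 := ![x 0 * x 3, x 1 * x 3, y 2 * y 3, 1] with hs
    have hs1 : ∀ i, s i * s i = 1 := by
      intro i
      fin_cases i
      exacts [sq_one _ (mul_ne_zero x0 x3), sq_one _ (mul_ne_zero x1 x3), sq_one _ (mul_ne_zero y2 y3), one_mul _]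
    have sx : Pm (s * x) ![1, 1, 0, 1] := pm_of_prop (t := x 3) x3 fun i => by
      fin_cases i
      · show x 0 * x 3 * x 0 = x 3 * 1
        linear_combination (x 3) * sq_one _ x0
      · show x 1 * x 3 * x 1 = x 3 * 1
        linear_combination (x 3) * sq_one _ x1
      · show y 2 * y 3 * x 2 = x 3 * 0
        rw [x2]; ring
      · show 1 * x 3 = x 3 * 1
        ring
    have sy : Pm (s * y) ![1, 0, 1, 1] := pm_of_prop (t := y 3) y3 fun i => by
      fin_cases i
      · show x 0 * x 3 * y 0 = y 3 * 1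
        rw [mul_one]; exact four_sign_aux _ _ _ _ x3 y0 exy
      · show x 1 * x 3 * y 1 = y 3 * 0
        rw [y1]; ring
      · show y 2 * y 3 * y 2 = y 3 * 1
        linear_combination (y 3) * sq_one _ y2
      · show 1 * y 3 = y 3 * 1
        ring
    have sz : Pm (s * z) ![0, 1, 1, 1] := pm_of_prop (t := z 3) z3 fun i => by
      fin_cases i
      · show x 0 * x 3 * z 0 = z 3 * 0
        rw [z0]; ring
      · show x 1 * x 3 * z 1 = z 3 * 1
        rw [mul_one]; exact four_sign_aux _ _ _ _ x3 z1 exz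
      · show y 2 * y 3 * z 2 = z 3 * 1
        rw [mul_one]; exact four_sign_aux _ _ _ _ y3 z2 eyz
      · show 1 * z 3 = z 3 * 1
        ring
    refine ⟨s, hs1, fun v hv => ?_⟩
    rcases (four_reps v).2 hv with h | h | h | ⟨k, hk3, hk⟩
    · exact Or.inr ⟨_, hx, fun i => (h i).symm, sx⟩
    · exact Or.inr ⟨_, hy, fun i => (h i).symm, sy⟩
    · exact Or.inr ⟨_, hz, fun i => (h i).symm, sz⟩
    · refine Or.inl ⟨k, ?_, fun i => (hk i).symm⟩
      clear hk
      revert hk3
      revert k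
      simp only [ha]
      decide

end CfsgLib.ThreeTrans.Refl3
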