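import Cfsg.Agent.Lib.ThreeTrans.Refl3.Model

/-!
An isotropic vector off four given ones in dimension six (owner: helper16; used by the base steps of
the reflection family of dimension six).
-/

set_option autoImplicit false

namespace CfsgLib.ThreeTrans.Refl3

open CfsgLib.Classical.Quad
open QuadraticMap (polar polarBilin)

universe v

set_option synthInstance.maxSize 4000 in
theorem three_form_points : ∀ c : ZMod 3, c = 1 ∨ c = -1 → ∀ u : Fin 3 → ZMod 3, dot ![1, 1, c] u u = 0 →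
    ∀ w : Fin 3 → ZMod 3, dot ![1, 1, c] w w = 0 → 2 * dot ![1, 1, c] u w ≠ -1 →
      ∃ r : Fin 3 → ZMod 3, dot ![1, 1, c] r r ≠ 0 ∧ 2 * dot ![1, 1, c] r u ≠ dot ![1, 1, c] r r ∧
        2 * dot ![1, 1, c] r w ≠ -1 := by
  simp only [dot, Fin.sum_univ_three]
  decide

theorem three_weights : ∀ a : Fin 3 → ZMod 3, (∀ i, a i = 1 ∨ a i = -1) →
    2 ≤ (Finset.univ.filter fun i => a i = 1).card →
      ∃ i : Fin 3, (a i = 1 ∨ a i = -1) ∧ ∀ j, a (Equiv.swap i 2 j) = (![1, 1, a i] : Fin 3 → ZMod 3) j := by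
  decide

theorem quad_coeff : ∀ β : ZMod 3, β ≠ 0 → β - 1 ≠ -1 := by decide

theorem quad_shift : ∀ q : ZMod 3, q ≠ -1 → 1 + q ≠ 0 := by decide

theorem quad_shift' : ∀ t q : ZMod 3, q ≠ t → -t + q ≠ 0 := by decide

variable [Fact (Nat.Prime 3)] {W : Type v} [AddCommGroup W] [Module (ZMod 3) W] [FiniteDimensional (ZMod 3) W]
  {Q : QuadraticForm (ZMod 3) W}

/-- A common non-orthogonal vector for two orthogonal pairs, in dimension six. -/
theorem exists_quad_six (hQ : (polarBilin Q).Nondegenerate) {e : W} (he : Q e = 1)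
    (hdim : Module.finrank (ZMod 3) W = 6)
    {w₀ b c c' : W} (h₀ : Q w₀ = 0) (hb : Q b = 0) (hc : Q c = 0) (hc' : Q c' = 0)
    (e₀ : polar Q e w₀ = 0) (eb : polar Q e b = 0) (ec : polar Q e c = 0) (ec' : polar Q e c' = 0)
    (h0b : polar Q w₀ b = 0) (hcc : polar Q c c' = 0)
    (h0c : polar Q w₀ c = 1) (hbc : polar Q b c = 1) (h0c' : polar Q w₀ c' = 1) (hbc' : polar Q b c' ≠ 0) :
    ∃ z, Q z = 0 ∧ polar Q e z = 0 ∧ polar Q z w₀ ≠ 0 ∧ polar Q z b ≠ 0 ∧ polar Q z c ≠ 0 ∧ polar Q z c' ≠ 0 := by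
  classical
  have hc0 : polar Q c w₀ = 1 := by rw [QuadraticMap.polar_comm]; exact h0c
  have hcb : polar Q c b = 1 := by rw [QuadraticMap.polar_comm]; exact hbc
  have hb0 : polar Q b w₀ = 0 := by rw [QuadraticMap.polar_comm]; exact h0b
  have hc'0 : polar Q c' w₀ = 1 := by rw [QuadraticMap.polar_comm]; exact h0c'
  have hc'c : polar Q c' c = 0 := by rw [QuadraticMap.polar_comm]; exact hcc
  set C := Submodule.span (ZMod 3) (Set.range ![e, w₀, c]) with hCdef
  have hli : LinearIndependent (ZMod 3) ![e, w₀, c] := by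
    rw [Fintype.linearIndependent_iff]
    intro g hg
    simp only [Fin.sum_univ_three, Matrix.cons_val_zero, Matrix.cons_val_one, Matrix.cons_val] at hg
    have h1 := congrArg (polar Q e) hg
    have h2 := congrArg (polar Q w₀) hg
    have h3 := congrArg (polar Q c) hg
    simp [polar_add_right', polar_smul_right', polar_self', he, h₀, hc, e₀, ec,
      QuadraticMap.polar_comm (⇑Q) w₀ e, QuadraticMap.polar_comm (⇑Q) c e, hc0, h0c, two_ne] at h1 h2 h3
    intro i
    fin_cases i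
    exacts [h1, h3, h2]
  have hCd : Module.finrank (ZMod 3) C = 3 := by
    rw [hCdef, finrank_span_eq_card hli]; rfl
  set K := LinearMap.BilinForm.orthogonal (polarBilin Q) C with hK
  have hmemK : ∀ {x : W}, x ∈ K ↔ polar Q e x = 0 ∧ polar Q w₀ x = 0 ∧ polar Q c x = 0 := by
    intro x
    constructor
    · intro hx
      exact ⟨hx e (Submodule.subset_span ⟨0, rfl⟩), hx w₀ (Submodule.subset_span ⟨1, rfl⟩),
        hx c (Submodule.subset_span ⟨2, rfl⟩)⟩
    · rintro ⟨x1, x2, x3⟩ u hu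
      show polar Q u x = 0
      induction hu using Submodule.span_induction with
      | mem u hu => obtain ⟨i, rfl⟩ := hu; fin_cases i <;> assumption
      | zero => exact QuadraticMap.polar_zero_left _ _
      | add u v _ _ hu hv => rw [polar_add_left', hu, hv, add_zero]
      | smul t u _ hu => rw [polar_smul_left', hu, mul_zero]
  have hKd : Module.finrank (ZMod 3) K = 3 := by
    have := LinearMap.BilinForm.finrank_orthogonal hQ C
    rw [← hK] at this
    omega
  have hdisj : ∀ x ∈ C, x ∈ K → x = 0 := by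
    intro x hx hxK
    obtain ⟨g, rfl⟩ := (Submodule.mem_span_range_iff_exists_fun _).1 hx
    obtain ⟨h1, h2, h3⟩ := hmemK.1 hxK
    simp [Fin.sum_univ_three, polar_add_right', polar_smul_right', polar_self', he, h₀, hc, e₀, ec,
      QuadraticMap.polar_comm (⇑Q) w₀ e, QuadraticMap.polar_comm (⇑Q) c e, hc0, h0c, two_ne] at h1 h2 h3
    simp [Fin.sum_univ_three, h1, h2, h3]
  have hsup : C ⊔ K = ⊤ := by
    refine Submodule.eq_top_of_finrank_eq ?_
    have h1 := Submodule.finrank_sup_add_finrank_inf_eq C K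
    rw [show C ⊓ K = ⊥ from (Submodule.eq_bot_iff _).2 fun x hx => hdisj x hx.1 hx.2, finrank_bot] at h1
    omega
  have hp : ∀ x y : K, polar (Q.comp K.subtype) x y = polar Q (x : W) y := fun x y => by
    simp only [polar, QuadraticMap.comp_apply, Submodule.subtype_apply, Submodule.coe_add]
  have key : ∀ x : K, (∀ y : K, polar Q (x : W) y = 0) → x = 0 := by
    intro x hx
    refine Subtype.ext (hQ.1 _ fun z => ?_)
    obtain ⟨u, hu, k, hk, rfl⟩ := Submodule.mem_sup.1 (hsup ▸ Submodule.mem_top : z ∈ C ⊔ K)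
    show polar Q (x : W) (u + k) = 0
    rw [polar_add_right', hx ⟨k, hk⟩, QuadraticMap.polar_comm, show polar Q u (x : W) = 0 from x.2 u hu, add_zero]
  have hnd : (polarBilin (Q.comp K.subtype)).Nondegenerate :=
    ⟨fun x hx => key x fun y => by rw [← hp]; exact hx y,
      fun x hx => key x fun y => by rw [← hp, QuadraticMap.polar_comm]; exact hx y⟩
  obtain ⟨a, hw, hcard, -, φ, hφ⟩ := exists_coords hnd (m := 2) hKd
  have hpd : ∀ x y : K, polar Q (x : W) y = 2 * dot a (φ x) (φ y) := fun x y => by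
    rw [← hp, ← polar_diagForm]
    simp only [polar, hφ, diagForm_apply, map_add]
  -- a permutation of the weights
  obtain ⟨σ, d, hd, haσ⟩ : ∃ (σ : Equiv.Perm (Fin 3)) (d : ZMod 3), (d = 1 ∨ d = -1) ∧ a ∘ σ = ![1, 1, d] := by
    obtain ⟨i, hi, hij⟩ := three_weights a hw.1 hcard
    exact ⟨Equiv.swap i 2, a i, hi, funext hij⟩
  have hdot : ∀ u w : Fin 3 → ZMod 3, dot a u w = dot ![1, 1, d] (u ∘ σ) (w ∘ σ) := fun u w => by
    rw [← haσ]
    exact (Equiv.sum_comp σ fun i => a i * u i * w i).symm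
  set b₁ := b - w₀ with hb₁
  set c₁ := c' - c with hc₁
  have hb₁K : b₁ ∈ K := hmemK.2 ⟨by rw [hb₁, QuadraticMap.polar_sub_right, eb, e₀, sub_zero],
    by rw [hb₁, QuadraticMap.polar_sub_right, h0b, polar_self', h₀]; ring,
    by rw [hb₁, QuadraticMap.polar_sub_right, hcb, hc0, sub_self]⟩
  have hc₁K : c₁ ∈ K := hmemK.2 ⟨by rw [hc₁, QuadraticMap.polar_sub_right, ec', ec, sub_zero],
    by rw [hc₁, QuadraticMap.polar_sub_right, h0c', h0c, sub_self],
    by rw [hc₁, QuadraticMap.polar_sub_right, hcc, polar_self', hc]; ring⟩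
  have hQb : Q b₁ = 0 := by
    rw [hb₁, sub_eq_add_neg, apply_add, QuadraticMap.map_neg, QuadraticMap.polar_neg_right, hb, h₀, hb0]; ring
  have hQc : Q c₁ = 0 := by
    rw [hc₁, sub_eq_add_neg, apply_add, QuadraticMap.map_neg, QuadraticMap.polar_neg_right, hc, hc', hc'c]; ring
  have hbc₁ : polar Q b₁ c₁ = polar Q b c' - 1 := by
    rw [hb₁, hc₁, QuadraticMap.polar_sub_left, QuadraticMap.polar_sub_right, QuadraticMap.polar_sub_right,
      hbc, h0c', h0c]
    ring
  have hQd : ∀ x : K, Q (x : W) = dot ![1, 1, d] (φ x ∘ σ) (φ x ∘ σ) := fun x => by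
    rw [← hdot, ← hφ]; rfl
  obtain ⟨s, hs, hsu, hsw⟩ := three_form_points d hd (φ ⟨b₁, hb₁K⟩ ∘ σ)
    (by rw [← hQd]; exact hQb) (φ ⟨c₁, hc₁K⟩ ∘ σ) (by rw [← hQd]; exact hQc)
    (by rw [← hdot, ← hpd]; exact hbc₁ ▸ quad_coeff _ hbc')
  set r : K := φ.symm (s ∘ σ.symm) with hr
  have hrσ : φ r ∘ σ = s := by
    rw [hr, LinearEquiv.apply_symm_apply]
    funext i
    simp
  have hrQ : Q (r : W) ≠ 0 := by rw [hQd, hrσ]; exact hs
  have hrb : polar Q (r : W) b₁ ≠ Q (r : W) := by
    rw [hpd r ⟨b₁, hb₁K⟩, hdot, hQd, hrσ]; exact hsu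
  have hrc : polar Q (r : W) c₁ ≠ -1 := by
    rw [hpd r ⟨c₁, hc₁K⟩, hdot, hrσ]; exact hsw
  obtain ⟨re, r0', rc'⟩ := hmemK.1 r.2
  have r0 : polar Q (r : W) w₀ = 0 := by rw [QuadraticMap.polar_comm]; exact r0'
  have rc : polar Q (r : W) c = 0 := by rw [QuadraticMap.polar_comm]; exact rc'
  rw [hb₁, QuadraticMap.polar_sub_right, r0, sub_zero] at hrb
  rw [hc₁, QuadraticMap.polar_sub_right, rc, sub_zero] at hrc
  set β := -Q (r : W) with hβ
  refine ⟨w₀ + β • c + (r : W), ?_, ?_, ?_, ?_, ?_, ?_⟩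
  · rw [apply_add, apply_add, apply_smul, h₀, hc, polar_smul_right', h0c, polar_add_left', polar_smul_left',
      QuadraticMap.polar_comm (⇑Q) w₀ (r : W), r0, QuadraticMap.polar_comm (⇑Q) c (r : W), rc, hβ]
    ring
  · rw [polar_add_right', polar_add_right', polar_smul_right', e₀, ec, re]; ring
  · rw [polar_add_left', polar_add_left', polar_smul_left', polar_self', h₀, hc0, r0, hβ]; simpa using hrQ
  · rw [polar_add_left', polar_add_left', polar_smul_left', h0b, hcb, zero_add, mul_one]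
    exact quad_shift' _ _ hrb
  · rw [polar_add_left', polar_add_left', polar_smul_left', h0c, polar_self', hc, rc]; simp
  · rw [polar_add_left', polar_add_left', polar_smul_left', h0c', hcc, mul_zero, add_zero]
    exact quad_shift _ hrc

end CfsgLib.ThreeTrans.Refl3
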