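import Cfsg.Agent.Lib.ThreeTrans.Refl3.Model

/-!
In dimension six two members commuting with two commuting members see the same isotropic line, provided
the common neighbours are numerous (owner: helper16; used by the base steps of the reflection family of
dimension six).
-/

set_option autoImplicit false

namespace CfsgLib.ThreeTrans.Refl3

open Cfsg CfsgLib.Classical.Quad
open QuadraticMap (polar polarBilin)

universe u v

theorem span_coeff : ∀ β : ZMod 3, (β = 0 → 1 + β * β * 1 + β * β = 1) ∧ (β ≠ 0 → 1 + β * β * 1 + β * β = 0) ∧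
    β + β * (2 * 1) = 0 := by decide

theorem span_pick : ∀ A B γ : ZMod 3, A ≠ 0 → B ≠ 0 → γ ≠ 0 → B - A * (B * A * γ) * γ = 0 := by decide

theorem span_shift : ∀ A C : ZMod 3, (∀ s : ZMod 3, A + s * C ≠ 0) → C = 0 ∧ A ≠ 0 := by decide

theorem span_minus : ∀ t : ZMod 3, t ≠ 0 → 2 - t * -t = 0 ∧ 2 - -t * t = 0 := by decide

theorem span_lit : (2 : ZMod 3) - -1 * 1 = 0 ∧ (2 : ZMod 3) - -1 * -1 ≠ 0 ∧ (1 : ZMod 3) ≠ 0 ∧ (-1 : ZMod 3) ≠ 0 ∧
    (2 : ZMod 3) ≠ -2 ∧ (-1 : ZMod 3) + -1 ≠ 0 ∧ ({1, -1} : Finset (ZMod 3)).card = 2 := by decide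

theorem span_unit : ∀ r : ZMod 3, r ∈ ({1, -1} : Finset (ZMod 3)) → r ≠ 0 := by decide

variable [Fact (Nat.Prime 3)] {W : Type v} [AddCommGroup W] [Module (ZMod 3) W] [FiniteDimensional (ZMod 3) W]
  {Q : QuadraticForm (ZMod 3) W}

/-- In the complement of three orthonormal vectors of a six-dimensional space, orthogonal isotropic vectors
are proportional. -/
theorem iso_line (hQ : (polarBilin Q).Nondegenerate) (hdim : Module.finrank (ZMod 3) W = 6) {e x y w u : W}
    (he : Q e = 1) (hx : Q x = 1) (hy : Q y = 1) (hex : polar Q e x = 0) (hey : polar Q e y = 0)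
    (hxy : polar Q x y = 0) (hw : Q w = 0) (hu : Q u = 0) (hw0 : w ≠ 0)
    (hew : polar Q e w = 0) (hxw : polar Q x w = 0) (hyw : polar Q y w = 0)
    (heu : polar Q e u = 0) (hxu : polar Q x u = 0) (hyu : polar Q y u = 0) (hwu : polar Q w u = 0) :
    u ∈ Submodule.span (ZMod 3) {w} := by
  by_contra hnot
  set L := Submodule.span (ZMod 3) (Set.range ![e, x, y, w, u]) with hL
  have hli : LinearIndependent (ZMod 3) ![e, x, y, w, u] := by
    rw [Fintype.linearIndependent_iff]
    intro g hg
    simp only [Fin.sum_univ_five, Matrix.cons_val_zero, Matrix.cons_val_one, Matrix.cons_val] at hg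
    have h1 := congrArg (polar Q e) hg
    have h2 := congrArg (polar Q x) hg
    have h3 := congrArg (polar Q y) hg
    simp [polar_add_right', polar_smul_right', polar_self', he, hx, hy, hex, hey, hxy, hew, hxw, hyw, heu, hxu,
      hyu, QuadraticMap.polar_comm (⇑Q) x e, QuadraticMap.polar_comm (⇑Q) y e, QuadraticMap.polar_comm (⇑Q) y x,
      two_ne] at h1 h2 h3
    rw [h1, h2, h3, zero_smul, zero_smul, zero_smul, zero_add, zero_add, zero_add] at hg
    have h5 : g 4 = 0 := by
      by_contra h5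
      refine hnot (Submodule.mem_span_singleton.2 ⟨-((g 4)⁻¹ * g 3), ?_⟩)
      have := congrArg ((g 4)⁻¹ • ·) (eq_neg_of_add_eq_zero_right hg)
      simp only [smul_neg, smul_smul, inv_mul_cancel₀ h5, one_smul] at this
      rw [this, neg_smul]
    rw [h5, zero_smul, add_zero, smul_eq_zero] at hg
    intro i
    fin_cases i
    exacts [h1, h2, h3, hg.resolve_right hw0, h5]
  have hLd : Module.finrank (ZMod 3) L = 5 := by rw [hL, finrank_span_eq_card hli]; rfl
  have hOd := LinearMap.BilinForm.finrank_orthogonal hQ L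
  set P := Submodule.span (ZMod 3) (Set.range ![w, u]) with hP
  have hli2 : LinearIndependent (ZMod 3) ![w, u] := by
    rw [LinearIndependent.pair_iff' hw0]
    exact fun t e0 => hnot (Submodule.mem_span_singleton.2 ⟨t, e0⟩)
  have hPd : Module.finrank (ZMod 3) P = 2 := by rw [hP, finrank_span_eq_card hli2]; rfl
  have hle : P ≤ LinearMap.BilinForm.orthogonal (polarBilin Q) L := by
    rw [hP, Submodule.span_le]
    rintro v ⟨j, rfl⟩ z hz
    show polar Q z _ = 0
    induction hz using Submodule.span_induction with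
    | mem z hz =>
      obtain ⟨i, rfl⟩ := hz
      fin_cases i <;> fin_cases j <;>
        simp [hew, hxw, hyw, heu, hxu, hyu, hwu, polar_self', hw, hu, QuadraticMap.polar_comm (⇑Q) u w]
    | zero => exact QuadraticMap.polar_zero_left _ _
    | add z z' _ _ hz hz' => rw [polar_add_left', hz, hz', add_zero]
    | smul t z _ hz => rw [polar_smul_left', hz, mul_zero]
  have := Submodule.finrank_mono hle
  omega

variable {G : Type u} [Group G] {D : Set G} {d a : G} {e : W} {ψ : G → W}

/-- The common neighbours `S` of `d` and `a` seen from `x` and from `y` give the same line. -/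
theorem span_of_count [Finite G] (hD : IsThreeTranspositionGroup D) (hm : IsModel (nb D d) Q (perp Q e) ψ)
    (hQ : (polarBilin Q).Nondegenerate) (hdim : Module.finrank (ZMod 3) W = 6) (he : Q e = 1)
    {x y : G} (hxd : x ∈ nb D d) (hxa : x ∈ nb D a) (hyd : y ∈ nb D d) (hya : y ∈ nb D a) (hxy : y ∈ nb D x)
    {w w' : W} (hw : Q w = 0) (hew : polar Q e w = 0) (hw0 : w ≠ 0) (hxw : polar Q (ψ x) w = 0)
    (hyw : polar Q (ψ y) w = 0) (hw' : Q w' = 0) (hew' : polar Q e w' = 0) (hw'0 : w' ≠ 0)
    (hxw' : polar Q (ψ x) w' = 0) (hyw' : polar Q (ψ y) w' = 0)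
    (hmx : ∀ z ∈ nb D d, z ∈ nb D x → (z ∈ nb D a ↔ polar Q (ψ z) w = 0))
    (hmy : ∀ z ∈ nb D d, z ∈ nb D y → (z ∈ nb D a ↔ polar Q (ψ z) w' = 0))
    (hnone : ∀ p, Q p = 1 → polar Q e p = 0 → polar Q (ψ x) p = 0 → polar Q (ψ y) p = 0 → polar Q w p ≠ 0)
    {ν : ℕ} (hν : ∀ z ∈ nb D d, z ∈ nb D a → {q | (q ∈ nb D d ∧ q ∈ nb D a) ∧ q ∈ nb D z}.ncard = ν)
    (hbig : ν ≠ 3 ∨ 10 < {q | q ∈ nb D d ∧ q ∈ nb D a}.ncard) :
    w' ∈ Submodule.span (ZMod 3) {w} := by
  classical
  set X := ψ x
  set Y := ψ y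
  have hX : Q X = 1 := (hm.mem x hxd).2
  have hY : Q Y = 1 := (hm.mem y hyd).2
  have hXY : polar Q X Y = 0 := (hm.perp x hxd y hyd (Ne.symm hxy.2.1)).1 hxy.2.2
  have heX : polar Q e X = 0 := (hm.mem x hxd).1
  have heY : polar Q e Y = 0 := (hm.mem y hyd).1
  by_contra hnot
  set γ := polar Q w w' with hγdef
  have hγ : γ ≠ 0 := fun h0 => hnot
    (iso_line hQ hdim he hX hY heX heY hXY hw hw' hw0 hew hxw hyw hew' hxw' hyw' h0)
  set S := {q | q ∈ nb D d ∧ q ∈ nb D a} with hS
  -- members with given vectors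
  have pick : ∀ v, polar Q e v = 0 → Q v = 1 → ∃ q ∈ nb D d, Pm (ψ q) v := fun v h1 h2 => hm.surj v h1 h2
  have adj : ∀ {p q : G} {u v : W}, p ∈ nb D d → q ∈ nb D d → Pm (ψ p) u → Pm (ψ q) v → polar Q u v = 0 →
      q ∈ nb D p := fun {p q u v} hp hq hu hv h0 => by
    obtain ⟨hne, hc⟩ := hm.perp' hp hq ((Pm.polar_iff hu hv).2 h0)
    exact ⟨hq.1, hne.symm, hc⟩
  have apart : ∀ {p q : G} {u v : W} (r : W), Pm (ψ p) u → Pm (ψ q) v → polar Q u r = 0 → polar Q v r ≠ 0 →
      p ≠ q := fun {p q u v} r hu hv h0 h1 e0 => h1 ((Pm.polar_iff (hv.symm.trans (e0 ▸ hu)) (Pm.refl r)).2 h0)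
  have sXw : ∀ s : ZMod 3, polar Q e (X + s • w') = 0 ∧ Q (X + s • w') = 1 := fun s =>
    ⟨by rw [polar_add_right', polar_smul_right', heX, hew', mul_zero, add_zero],
      by rw [apply_add, apply_smul, polar_smul_right', hX, hw', hxw']; ring⟩
  have sYw : ∀ t : ZMod 3, polar Q e (Y + t • w) = 0 ∧ Q (Y + t • w) = 1 := fun t =>
    ⟨by rw [polar_add_right', polar_smul_right', heY, hew, mul_zero, add_zero],
      by rw [apply_add, apply_smul, polar_smul_right', hY, hw, hyw]; ring⟩
  choose xs hxs hxsv using fun s => pick _ (sXw s).1 (sXw s).2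
  choose ys hys hysv using fun t => pick _ (sYw t).1 (sYw t).2
  have hXv : Pm (ψ x) X := Pm.refl _
  have hYv : Pm (ψ y) Y := Pm.refl _
  have xsS : ∀ s, xs s ∈ S := fun s => ⟨hxs s, (hmy _ (hxs s) (adj hyd (hxs s) hYv (hxsv s) (by
      rw [polar_add_right', polar_smul_right', QuadraticMap.polar_comm (⇑Q) Y X, hXY, hyw', mul_zero, add_zero]))).2
    ((Pm.polar_iff (hxsv s) (Pm.refl _)).2 (by
      rw [polar_add_left', polar_smul_left', hxw', polar_self', hw']; ring))⟩
  have ysS : ∀ t, ys t ∈ S := fun t => ⟨hys t, (hmx _ (hys t) (adj hxd (hys t) hXv (hysv t) (by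
      rw [polar_add_right', polar_smul_right', hXY, hxw, mul_zero, add_zero]))).2
    ((Pm.polar_iff (hysv t) (Pm.refl _)).2 (by
      rw [polar_add_left', polar_smul_left', hyw, polar_self', hw]; ring))⟩
  set c : ZMod 3 → ZMod 3 → G := fun s t => xs s * ys t * xs s with hc
  set cv : ZMod 3 → ZMod 3 → W := fun s t => Y + t • w - (t * s * γ) • X - (t * γ) • w' with hcv
  have cS : ∀ s t, c s t ∈ S := fun s t =>
    ⟨fold_mem_nb hD (hxs s) (hys t), fold_mem_nb hD (xsS s).2 (ysS t).2⟩
  have cvv : ∀ s t, s ≠ 0 → Pm (ψ (c s t)) (cv s t) := fun s t hs => by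
    refine ((hm.line _ (hxs s) _ (hys t)).trans (rfl3_pm (hxsv s) (hysv t))).trans (Or.inl ?_)
    rw [rfl3]
    have hp : polar Q (Y + t • w) (X + s • w') = t * s * γ := by
      simp only [polar_add_left', polar_add_right', polar_smul_left', polar_smul_right', hyw',
        QuadraticMap.polar_comm (⇑Q) Y X, hXY, QuadraticMap.polar_comm (⇑Q) w X, hxw, ← hγdef]
      ring
    rw [hp]
    simp only [hcv]
    match_scalars <;> first | ring1 | linear_combination (-(t * γ)) * sq_one s hs
  -- the polar products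
  have cX : ∀ s t, polar Q (cv s t) X = t * s * γ := fun s t => by
    simp only [hcv, QuadraticMap.polar_sub_left, polar_add_left', polar_smul_left', polar_self', hX,
      QuadraticMap.polar_comm (⇑Q) Y X, hXY, QuadraticMap.polar_comm (⇑Q) w X, hxw,
      QuadraticMap.polar_comm (⇑Q) w' X, hxw']
    linear_combination (-t * s * γ) * three'
  have cY : ∀ s t, polar Q (cv s t) Y = 2 := fun s t => by
    simp only [hcv, QuadraticMap.polar_sub_left, polar_add_left', polar_smul_left', polar_self', hY,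
      hXY, QuadraticMap.polar_comm (⇑Q) w Y, hyw, QuadraticMap.polar_comm (⇑Q) w' Y, hyw']
    ring
  have cw' : ∀ s t, polar Q (cv s t) w' = t * γ := fun s t => by
    simp only [hcv, QuadraticMap.polar_sub_left, polar_add_left', polar_smul_left', polar_self', hw', hyw', hxw',
      ← hγdef]
    ring
  have cw : ∀ s t, polar Q (cv s t) w = -(t * γ * γ) := fun s t => by
    simp only [hcv, QuadraticMap.polar_sub_left, polar_add_left', polar_smul_left', polar_self', hw, hyw, hxw,
      QuadraticMap.polar_comm (⇑Q) w' w, ← hγdef]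
    ring
  have cxs : ∀ s t r, polar Q (cv s t) (X + r • w') = t * γ * (s + r) := fun s t r => by
    rw [polar_add_right', polar_smul_right', cX, cw']; ring
  have cys : ∀ s t r, polar Q (cv s t) (Y + r • w) = 2 - r * t := fun s t r => by
    rw [polar_add_right', polar_smul_right', cY, cw]
    linear_combination (-r * t) * sq_one γ hγ
  have cc : ∀ s t, s ≠ 0 → t ≠ 0 → polar Q (cv (-s) (-t)) (cv s t) = 0 := fun s t hs ht => by
    conv_lhs => arg 3; simp only [hcv]
    rw [QuadraticMap.polar_sub_right, QuadraticMap.polar_sub_right, polar_add_right', polar_smul_right',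
      polar_smul_right', polar_smul_right', cY, cw, cX, cw']
    linear_combination (γ * γ * (2 - s * s)) * sq_one t ht + (2 - s * s) * sq_one γ hγ - sq_one s hs + three'
  have inj_shift : ∀ {V r : W} {f : ZMod 3 → G}, r ≠ 0 → Q V = 1 → polar Q V r = 0 →
      (∀ t, Pm (ψ (f t)) (V + t • r)) → Function.Injective f := by
    intro V r f hr hV hVr hf t t' e0
    have h1 : Pm (V + t • r) (V + t' • r) := (hf t).symm.trans (e0 ▸ hf t')
    rcases h1 with h1 | h1
    · by_contra hne
      have h2 : (t - t') • r = 0 := by rw [sub_smul, add_left_cancel h1, sub_self]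
      exact hne (sub_eq_zero.1 ((smul_eq_zero.1 h2).resolve_right hr))
    · have h2 := congrArg (polar Q V) h1
      rw [QuadraticMap.polar_neg_right, polar_add_right', polar_add_right', polar_smul_right', polar_smul_right',
        polar_self', hV, hVr] at h2
      simp only [mul_one, mul_zero, add_zero] at h2
      exact absurd h2 span_lit.2.2.2.2.1
  have xs_inj : Function.Injective xs := inj_shift hw'0 hX hxw' hxsv
  have ys_inj : Function.Injective ys := inj_shift hw0 hY hyw hysv
  -- ten members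
  set T : Finset G := Finset.univ.image xs ∪ Finset.univ.image ys ∪
    (({1, -1} : Finset (ZMod 3)) ×ˢ ({1, -1} : Finset (ZMod 3))).image (fun st => c st.1 st.2) with hT
  have memx : ∀ s, xs s ∈ T := fun s =>
    Finset.mem_union_left _ (Finset.mem_union_left _ (Finset.mem_image_of_mem _ (Finset.mem_univ _)))
  have memy : ∀ t, ys t ∈ T := fun t =>
    Finset.mem_union_left _ (Finset.mem_union_right _ (Finset.mem_image_of_mem _ (Finset.mem_univ _)))
  have memc : ∀ s t, s ≠ 0 → t ≠ 0 → c s t ∈ T := fun s t hs ht =>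
    Finset.mem_union_right _ (Finset.mem_image.2 ⟨(s, t),
      Finset.mem_product.2 ⟨by simpa using sign_cases s hs, by simpa using sign_cases t ht⟩, rfl⟩)
  have hTcard : T.card ≤ 10 := by
    refine (Finset.card_union_le _ _).trans ?_
    have h1 := Finset.card_union_le (Finset.univ.image xs) (Finset.univ.image ys)
    have h2 : (Finset.univ.image xs).card ≤ 3 := Finset.card_image_le.trans (by simp)
    have h3 : (Finset.univ.image ys).card ≤ 3 := Finset.card_image_le.trans (by simp)
    have h4 : ((({1, -1} : Finset (ZMod 3)) ×ˢ ({1, -1} : Finset (ZMod 3))).image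
        (fun st => c st.1 st.2)).card ≤ 4 :=
      Finset.card_image_le.trans (by rw [Finset.card_product, span_lit.2.2.2.2.2.2])
    omega
  have hTS : ∀ z ∈ T, z ∈ S := fun z hz => by
    rcases Finset.mem_union.1 hz with hz | hz
    · rcases Finset.mem_union.1 hz with hz | hz <;> obtain ⟨s, -, rfl⟩ := Finset.mem_image.1 hz
      exacts [xsS s, ysS s]
    · obtain ⟨st, -, rfl⟩ := Finset.mem_image.1 hz; exact cS _ _
  -- the neighbours of `x` in `S`
  have three : ν = 3 := by
    have hset : {q | (q ∈ nb D d ∧ q ∈ nb D a) ∧ q ∈ nb D x} = Set.range ys := by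
      ext q
      refine ⟨fun ⟨⟨hqd, hqa⟩, hqx⟩ => ?_, ?_⟩
      · have h0 : polar Q (ψ q) w = 0 := (hmx q hqd hqx).1 hqa
        have h1 : polar Q X (ψ q) = 0 := (hm.perp x hxd q hqd (Ne.symm hqx.2.1)).1 hqx.2.2
        have h2 : polar Q e (ψ q) = 0 := (hm.mem q hqd).1
        set β := polar Q Y (ψ q) with hβdef
        obtain ⟨hq0, hq1, hq2⟩ := span_coeff β
        set k := ψ q + β • Y with hk
        have kQ : Q k = 1 + β * β * 1 + β * β := by
          rw [hk, apply_add, apply_smul, polar_smul_right', QuadraticMap.polar_comm (⇑Q) (ψ q) Y, ← hβdef,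
            (hm.mem q hqd).2, hY]
        have ke : polar Q e k = 0 := by rw [hk, polar_add_right', polar_smul_right', h2, heY, mul_zero, add_zero]
        have kX : polar Q X k = 0 := by rw [hk, polar_add_right', polar_smul_right', h1, hXY, mul_zero, add_zero]
        have kY : polar Q Y k = 0 := by rw [hk, polar_add_right', polar_smul_right', polar_self', hY, ← hβdef, hq2]
        have kw : polar Q w k = 0 := by
          rw [hk, polar_add_right', polar_smul_right', QuadraticMap.polar_comm, h0,
            QuadraticMap.polar_comm (⇑Q) w Y, hyw, mul_zero, add_zero]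
        have hβ : β ≠ 0 := fun hb => hnone k (by rw [kQ, hq0 hb]) ke kX kY kw
        obtain ⟨t, ht⟩ := Submodule.mem_span_singleton.1 (iso_line hQ hdim he hX hY heX heY hXY hw
          (by rw [kQ, hq1 hβ]) hw0 hew hxw hyw ke kX kY kw)
        have hq : ψ q = (-β) • (Y + (-β * t) • w) := by
          rw [smul_add, smul_smul, show -β * (-β * t) = (β * β) * t by ring, sq_one β hβ, one_mul, ht, hk]
          module
        refine ⟨-β * t, hm.inj _ (hys _) q hqd ((hysv _).trans ?_)⟩
        rw [hq]
        rcases sign_cases _ (neg_ne_zero.2 hβ) with e1 | e1 <;> rw [e1]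
        · exact Or.inl (one_smul _ _).symm
        · exact Or.inr (by rw [neg_one_smul, neg_neg])
      · rintro ⟨t, rfl⟩
        exact ⟨ysS t, adj hxd (hys t) hXv (hysv t)
          (by rw [polar_add_right', polar_smul_right', hXY, hxw, mul_zero, add_zero])⟩
    rw [← hν x hxd hxa, hset, Set.ncard_range_of_injective ys_inj]
    simp
  -- every member of the ten has its neighbours among them
  have closedT : ∀ z ∈ T, ∀ q ∈ S, q ∈ nb D z → q ∈ T := by
    have fin : ∀ {z p₁ p₂ p₃ : G}, z ∈ S → p₁ ∈ T → p₂ ∈ T → p₃ ∈ T → p₁ ∈ nb D z → p₂ ∈ nb D z → p₃ ∈ nb D z →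
        p₁ ≠ p₂ → p₁ ≠ p₃ → p₂ ≠ p₃ → ∀ q ∈ S, q ∈ nb D z → q ∈ T := by
      intro z p₁ p₂ p₃ hz t1 t2 t3 n1 n2 n3 d12 d13 d23 q hq hqz
      have hsub : ({p₁, p₂, p₃} : Set G) ⊆ {q | (q ∈ nb D d ∧ q ∈ nb D a) ∧ q ∈ nb D z} := by
        rintro r (rfl | rfl | rfl)
        exacts [⟨hTS _ t1, n1⟩, ⟨hTS _ t2, n2⟩, ⟨hTS _ t3, n3⟩]
      have heq := Set.eq_of_subset_of_ncard_le hsub (by
        rw [hν z hz.1 hz.2, three]
        simp [d12, d13, d23]) (Set.toFinite _)
      have : q ∈ ({p₁, p₂, p₃} : Set G) := by rw [heq]; exact ⟨hq, hqz⟩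
      rcases this with rfl | rfl | rfl <;> assumption
    obtain ⟨l1, l2, h1, hm1, -, l6, -⟩ := span_lit
    have d01 : (0 : ZMod 3) ≠ 1 := h1.symm
    have d0m : (0 : ZMod 3) ≠ -1 := hm1.symm
    have d1m : (1 : ZMod 3) ≠ -1 := one_ne_neg
    intro z hz
    rcases Finset.mem_union.1 hz with hz | hz
    · rcases Finset.mem_union.1 hz with hz | hz
      · obtain ⟨s, -, rfl⟩ := Finset.mem_image.1 hz
        by_cases hs : s = 0
        · refine fin (xsS s) (memy 0) (memy 1) (memy (-1)) ?_ ?_ ?_ (ys_inj.ne d01) (ys_inj.ne d0m) (ys_inj.ne d1m)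
          iterate 3
            refine adj (hxs s) (hys _) (hxsv s) (hysv _) ?_
            simp only [hs, zero_smul, add_zero, polar_add_right', polar_smul_right', hXY, hxw, mul_zero]
        · have hs' : -s ≠ 0 := neg_ne_zero.2 hs
          refine fin (xsS s) (memy 0) (memc (-s) 1 hs' h1) (memc (-s) (-1) hs' hm1) ?_ ?_ ?_ ?_ ?_ ?_
          · refine adj (hxs s) (hys 0) (hxsv s) (hysv 0) ?_
            simp only [zero_smul, add_zero, polar_add_left', polar_smul_left', hXY,
              QuadraticMap.polar_comm (⇑Q) w' Y, hyw', mul_zero]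
          iterate 2
            refine adj (hxs s) (cS _ _).1 (hxsv s) (cvv _ _ hs') ?_
            rw [QuadraticMap.polar_comm, cxs, neg_add_cancel, mul_zero]
          iterate 2
            refine apart X (hysv 0) (cvv _ _ hs') ?_ ?_
            · rw [zero_smul, add_zero, QuadraticMap.polar_comm]; exact hXY
            · rw [cX]
              exact mul_ne_zero (mul_ne_zero (by assumption) hs') hγ
          · refine apart (Y + (-1 : ZMod 3) • w) (cvv _ _ hs') (cvv _ _ hs') ?_ ?_
            · rw [cys]; exact l1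
            · rw [cys]; exact l2
      · obtain ⟨t, -, rfl⟩ := Finset.mem_image.1 hz
        by_cases ht : t = 0
        · refine fin (ysS t) (memx 0) (memx 1) (memx (-1)) ?_ ?_ ?_ (xs_inj.ne d01) (xs_inj.ne d0m) (xs_inj.ne d1m)
          iterate 3
            refine adj (hys t) (hxs _) (hysv t) (hxsv _) ?_
            simp only [ht, zero_smul, add_zero, polar_add_right', polar_smul_right', hyw', mul_zero,
              QuadraticMap.polar_comm (⇑Q) Y X, hXY]
        · have ht' : -t ≠ 0 := neg_ne_zero.2 ht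
          refine fin (ysS t) (memx 0) (memc 1 (-t) h1 ht') (memc (-1) (-t) hm1 ht') ?_ ?_ ?_ ?_ ?_ ?_
          · refine adj (hys t) (hxs 0) (hysv t) (hxsv 0) ?_
            simp only [zero_smul, add_zero, polar_add_left', polar_smul_left', QuadraticMap.polar_comm (⇑Q) Y X, hXY,
              QuadraticMap.polar_comm (⇑Q) w X, hxw, mul_zero]
          iterate 2
            refine adj (hys t) (cS _ _).1 (hysv t) (cvv _ _ (by assumption)) ?_
            rw [QuadraticMap.polar_comm, cys]; exact (span_minus t ht).1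
          iterate 2
            refine apart Y (hxsv 0) (cvv _ _ (by assumption)) ?_ ?_
            · rw [zero_smul, add_zero]; exact hXY
            · rw [cY]; exact two_ne
          · refine apart (X + (-1 : ZMod 3) • w') (cvv _ _ h1) (cvv _ _ hm1) ?_ ?_
            · rw [cxs, add_neg_cancel, mul_zero]
            · rw [cxs]; exact mul_ne_zero (mul_ne_zero ht' hγ) l6
    · obtain ⟨⟨s, t⟩, hst, rfl⟩ := Finset.mem_image.1 hz
      rw [Finset.mem_product] at hst
      have hs := span_unit _ hst.1; have ht := span_unit _ hst.2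
      have hs' : -s ≠ 0 := neg_ne_zero.2 hs; have ht' : -t ≠ 0 := neg_ne_zero.2 ht
      refine fin (cS s t) (memx (-s)) (memy (-t)) (memc (-s) (-t) hs' ht') ?_ ?_ ?_ ?_ ?_ ?_
      · refine adj (cS s t).1 (hxs _) (cvv s t hs) (hxsv _) ?_
        rw [cxs, add_neg_cancel, mul_zero]
      · refine adj (cS s t).1 (hys _) (cvv s t hs) (hysv _) ?_
        rw [cys]; exact (span_minus t ht).2
      · refine adj (cS s t).1 (cS _ _).1 (cvv s t hs) (cvv _ _ hs') ?_
        rw [QuadraticMap.polar_comm, cc s t hs ht]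
      · refine (apart X (hysv _) (hxsv _) ?_ ?_).symm
        · rw [QuadraticMap.polar_comm, polar_add_right', polar_smul_right', hXY, hxw, mul_zero, add_zero]
        · rw [polar_add_left', polar_smul_left', polar_self', hX, QuadraticMap.polar_comm (⇑Q) w' X, hxw']
          simp [two_ne]
      · refine apart Y (hxsv _) (cvv _ _ hs') ?_ ?_
        · rw [polar_add_left', polar_smul_left', hXY, QuadraticMap.polar_comm (⇑Q) w' Y, hyw', mul_zero, add_zero]
        · rw [cY]; exact two_ne
      · refine apart X (hysv _) (cvv _ _ hs') ?_ ?_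
        · rw [QuadraticMap.polar_comm, polar_add_right', polar_smul_right', hXY, hxw, mul_zero, add_zero]
        · rw [cX]; exact mul_ne_zero (mul_ne_zero ht' hs') hγ
  -- hence there are no others
  have hall : S ⊆ (T : Set G) := by
    intro p hp
    by_contra hpT
    have key : ∀ z ∈ T, ∀ {v}, z ∈ nb D d → Pm (ψ z) v → polar Q (ψ p) v ≠ 0 := fun z hz {v} hzd hv h0 => by
      refine hpT (closedT z hz p hp (adj hzd hp.1 hv (Pm.refl _) ?_))
      rw [QuadraticMap.polar_comm]; exact h0
    obtain ⟨hC', hA⟩ := span_shift (polar Q (ψ p) X) (polar Q (ψ p) w') fun s h0 =>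
      key _ (memx s) (hxs s) (hxsv s) (by rw [polar_add_right', polar_smul_right']; exact h0)
    obtain ⟨hC, hB⟩ := span_shift (polar Q (ψ p) Y) (polar Q (ψ p) w) fun t h0 =>
      key _ (memy t) (hys t) (hysv t) (by rw [polar_add_right', polar_smul_right']; exact h0)
    set A := polar Q (ψ p) X
    set B := polar Q (ψ p) Y
    have hst : B * A * γ ≠ 0 := mul_ne_zero (mul_ne_zero hB hA) hγ
    refine key _ (memc (B * A * γ) 1 hst one_ne_zero) (cS _ _).1 (cvv _ _ hst) ?_
    simp only [hcv, QuadraticMap.polar_sub_right, polar_add_right', polar_smul_right', hC, hC']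
    linear_combination span_pick A B γ hA hB hγ
  have : S.ncard ≤ 10 := (Set.ncard_le_ncard hall (Finset.finite_toSet T)).trans (by rwa [Set.ncard_coe_finset])
  rcases hbig with h1 | h1
  · exact h1 three
  · omega

end CfsgLib.ThreeTrans.Refl3
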